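import Groth.Agent.Sga3C.DimTop
import Groth.Agent.Desc.DimMap
import Groth.Agent.VarietyB.DimSch

/-!
# Alterations over a field do not increase the dimension (TREE-DIM)
-/

set_option autoImplicit false
universe u

open CategoryTheory CategoryTheory.Limits AlgebraicGeometry

namespace K616.TreeDim

/-- All nonempty opens of an irreducible scheme locally of finite type over a field have the same dimension. -/
theorem dim_open {K : Type u} [Field K] {B : Scheme.{u}} [IrreducibleSpace B]
    (q : B ⟶ Spec (CommRingCat.of K)) [LocallyOfFiniteType q] (U : B.Opens) (hU : (U : Set B).Nonempty) :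
    topologicalKrullDim U = topologicalKrullDim B := by
  let _ : B.Over (Spec (CommRingCat.of K)) := ⟨q⟩
  have : LocallyOfFiniteType (B ↘ Spec (CommRingCat.of K)) := ‹LocallyOfFiniteType q›
  rw [Groth.Agent.VarietyB.DimSch.topologicalKrullDim_opens_eq_trd K U hU, Groth.Agent.VarietyB.DimSch.topologicalKrullDim_eq_trd K]

/-- An integral morphism does not increase the dimension. -/
theorem dim_le_of_integral {X Y : Scheme.{u}} (f : X ⟶ Y) [IsIntegralHom f] :
    topologicalKrullDim X ≤ topologicalKrullDim Y :=
  Groth.Agent.Desc.DimMap.topologicalKrullDim_le_of_fibres f f.continuous fun _ _ hxy h =>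
    Groth.Agent.Sga3C.DimTop.eq_of_specializes_of_isIntegralHom f _ _ hxy h

/-- TREE-DIM. Alterations of schemes of finite type over a field do not increase the dimension. -/
theorem dim_le {K : Type u} [Field K] {B B' : Scheme.{u}} [IsIntegral B] [IsIntegral B']
    (q : B ⟶ Spec (CommRingCat.of K)) [LocallyOfFiniteType q] (b : B' ⟶ B) [LocallyOfFiniteType b] [QuasiCompact b]
    [IsDominant b] (W : B.Opens) (hW : (W : Set B).Nonempty) (hfin : IsFinite (b ∣_ W)) :
    topologicalKrullDim B' ≤ topologicalKrullDim B := by
  obtain ⟨_, hyW, ⟨x, rfl⟩⟩ := b.denseRange.inter_open_nonempty W W.2 hW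
  rw [← dim_open (b ≫ q) (b ⁻¹ᵁ W) ⟨x, hyW⟩, ← dim_open q W hW]
  exact dim_le_of_integral (b ∣_ W)

end K616.TreeDim
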